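import Groth.Agent.KFlatLib.LpullAdj
import Groth.Agent.KFlatLib.PullKFlat
import Groth.Agent.DerLib.KInjTriangulated

/-!
# Direct images commute with derived limits
-/

set_option autoImplicit false

universe u

open CategoryTheory CategoryTheory.Limits AlgebraicGeometry Pretriangulated Groth.Agent.DerLib

attribute [local instance] HasDerivedCategory.standard

namespace RlimPushLib

variable {X Y : Scheme.{u}} (f : X ⟶ Y) [DCoh.HasRpush f]

theorem isRlim_rpush (K : ℕ → DCoh.D X) (t : ∀ n, K (n + 1) ⟶ K n) [HasProduct K]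
    [HasProduct fun n => (DCoh.Rpush f).obj (K n)] (L : DCoh.D X) (hL : DCoh.IsRlim K t L) :
    DCoh.IsRlim (fun n => (DCoh.Rpush f).obj (K n)) (fun n => (DCoh.Rpush f).map (t n))
      ((DCoh.Rpush f).obj L) := by
  let R := DCoh.Rpush f
  haveI := KFlatLib.hasLpull f
  haveI : R.IsRightAdjoint := (KFlatLib.lpullRpushAdj f).isRightAdjoint
  obtain ⟨_, _⟩ := KInjDerived.exists_isTriangulated_map KFlatLib.enoughKInj_modules
    (Scheme.Modules.pushforward f) R ((DCoh.pushKh f).totalRightDerivedUnit DerivedCategory.Qh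
      (HomotopyCategory.quasiIso X.Modules (ComplexShape.up ℤ)))
  obtain ⟨a, c, hT⟩ := hL
  let φ := PreservesProduct.iso R K
  refine ⟨R.map a ≫ φ.hom, φ.inv ≫ R.map c ≫ (R.commShiftIso (1 : ℤ)).hom.app L, ?_⟩
  refine Pretriangulated.isomorphic_distinguished _ (R.map_distinguished _ hT) _ ?_
  refine Iso.symm ?_
  refine Triangle.isoMk _ _ (Iso.refl _) φ φ ?_ ?_ ?_
  · exact (Category.id_comp _).symm
  · refine Pi.hom_ext _ _ fun n => ?_
    change (R.map (Pi.lift fun n => Pi.π K n - Pi.π K (n + 1) ≫ t n) ≫ piComparison R K) ≫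
        Pi.π (fun n => R.obj (K n)) n =
      (piComparison R K ≫ Pi.lift fun n => Pi.π (fun n => R.obj (K n)) n -
        Pi.π (fun n => R.obj (K n)) (n + 1) ≫ R.map (t n)) ≫ Pi.π (fun n => R.obj (K n)) n
    rw [Category.assoc, Category.assoc, Pi.lift_π, piComparison_comp_π, ← Functor.map_comp, Pi.lift_π,
      Preadditive.comp_sub, piComparison_comp_π, ← Category.assoc (piComparison R K), piComparison_comp_π,
      ← Functor.map_comp, ← Functor.map_sub]
  · change (R.map c ≫ (R.commShiftIso (1 : ℤ)).hom.app L) ≫ (𝟙 (R.obj L))⟦(1 : ℤ)⟧' =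
      φ.hom ≫ φ.inv ≫ R.map c ≫ (R.commShiftIso (1 : ℤ)).hom.app L
    rw [Iso.hom_inv_id_assoc, CategoryTheory.Functor.map_id]
    exact Category.comp_id _

end RlimPushLib
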